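import Cfsg.Agent.BT62.Prim3

/-!
# Three inequivalent distinguishing three-colourings
-/

set_option autoImplicit false

namespace Cfsg.Agent.BT62

open MulAction
open scoped Pointwise

/-- The three colourings are inequivalent and only preserved by elements fixing all points. -/
def Three3 (G I : Type) [Group G] [MulAction G I] (c : Fin 3 → I → Fin 3) : Prop :=
  ∀ (g : G) (a b : Fin 3), (∀ i : I, c a (g • i) = c b i) → a = b ∧ ∀ i : I, g • i = i

/-- The primitive case. -/
theorem three3_of_primitive {G I : Type} [Group G] [Finite G] [MulAction G I] [Finite I]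
    [Nonempty I] [IsPreprimitive G I] (hsol : Group.IsSolvable G) (h3 : (Nat.card G).Coprime 3) :
    ∃ c : Fin 3 → I → Fin 3, Three3 G I c := by
  obtain ⟨c0, hc0⟩ := exists_three_prim (I := I) hsol h3
  refine ⟨fun a i => c0 i + a, fun g a b hg => ?_⟩
  have hstep : ∀ i, c0 (g • i) = c0 i + (b - a) := fun i => by
    rw [eq_sub_of_add_eq (hg i), add_sub_assoc]
  have hpow : ∀ (j : ℕ) (i : I), c0 (g ^ j • i) = c0 i + j • (b - a) := by
    intro j
    induction j with
    | zero => intro i; simp
    | succ j ih => intro i; rw [pow_succ', mul_smul, hstep, ih, succ_nsmul, add_assoc]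
  have hδ : b - a = 0 := by
    have h1 := hpow (orderOf g) (Classical.arbitrary I)
    rw [pow_orderOf_eq_one, one_smul, left_eq_add] at h1
    have h2 : ∀ δ : Fin 3, 3 • δ = 0 := by decide
    obtain h4 := addOrderOf_dvd_of_nsmul_eq_zero h1
    have h5 := addOrderOf_dvd_of_nsmul_eq_zero (h2 (b - a))
    have hco : (orderOf g).Coprime 3 := h3.coprime_dvd_left (orderOf_dvd_natCard g)
    exact AddMonoid.addOrderOf_eq_one_iff.mp (Nat.eq_one_of_dvd_coprimes hco h4 h5)
  exact ⟨(sub_eq_zero.mp hδ).symm, hc0 g fun i => by rw [hstep, hδ, add_zero]⟩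

theorem three3_aux : ∀ (n : ℕ) (G I : Type) [Group G] [Finite G] [MulAction G I] [Finite I]
    [Nonempty I], Nat.card I ≤ n → Group.IsSolvable G → (Nat.card G).Coprime 3 → ∃ c : Fin 3 → I → Fin 3, Three3 G I c := by
  intro n
  induction n using Nat.strong_induction_on with
  | _ n ih =>
    intro G I _ _ _ _ _ hn hsol h3
    haveI : Group.IsSolvable G := hsol
    rcases lt_or_ge (Nat.card I) 2 with hsmall | hI2
    · haveI : Subsingleton I := Finite.card_le_one_iff_subsingleton.mp (by omega)
      obtain ⟨i⟩ := (inferInstance : Nonempty I)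
      exact ⟨fun a _ => a, fun g a b h => ⟨h i, fun j => Subsingleton.elim _ _⟩⟩
    classical
    by_cases htr : IsPretransitive G I
    swap
    · obtain ⟨a, b, hab⟩ : ∃ a b : I, b ∉ orbit G a := by
        by_contra hno
        push Not at hno
        exact htr ⟨fun a b => hno a b⟩
      set P : I → Prop := fun i => i ∈ orbit G a with hPdef
      have hP : ∀ (g : G) i, P i → P (g • i) := fun g i hi => by
        obtain ⟨h, rfl⟩ := hi
        exact ⟨g * h, mul_smul g h a⟩
      have hP' : ∀ (g : G) i, ¬ P i → ¬ P (g • i) := fun g i hi h => hi (by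
        have := hP g⁻¹ _ h
        rwa [inv_smul_smul] at this)
      letI : MulAction G {i // P i} :=
        { smul := fun g i => ⟨g • i.1, hP g _ i.2⟩
          one_smul := fun i => Subtype.ext (one_smul G i.1)
          mul_smul := fun a b i => Subtype.ext (mul_smul a b i.1) }
      letI : MulAction G {i // ¬ P i} :=
        { smul := fun g i => ⟨g • i.1, hP' g _ i.2⟩
          one_smul := fun i => Subtype.ext (one_smul G i.1)
          mul_smul := fun a b i => Subtype.ext (mul_smul a b i.1) }
      haveI : Nonempty {i // P i} := ⟨⟨a, mem_orbit_self a⟩⟩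
      haveI : Nonempty {i // ¬ P i} := ⟨⟨b, hab⟩⟩
      have hlt1 : Nat.card {i // P i} < Nat.card I := Finite.card_subtype_lt (p := P) (x := b) hab
      have hlt2 : Nat.card {i // ¬ P i} < Nat.card I :=
        Finite.card_subtype_lt (p := fun i => ¬ P i) (x := a) (not_not.mpr (mem_orbit_self a))
      obtain ⟨c1, hc1⟩ := ih _ (hlt1.trans_le hn) G {i // P i} le_rfl hsol h3
      obtain ⟨c2, hc2⟩ := ih _ (hlt2.trans_le hn) G {i // ¬ P i} le_rfl hsol h3
      refine ⟨fun k i => if h : P i then c1 k ⟨i, h⟩ else c2 0 ⟨i, h⟩, fun g k l hg => ?_⟩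
      obtain ⟨hkl, hfix1⟩ := hc1 g k l fun j => by
        have := hg j.1
        simp only [dif_pos (hP g _ j.2), dif_pos j.2] at this
        exact this
      obtain ⟨-, hfix2⟩ := hc2 g 0 0 fun j => by
        have := hg j.1
        simp only [dif_neg (hP' g _ j.2), dif_neg j.2] at this
        exact this
      refine ⟨hkl, fun i => ?_⟩
      by_cases hi : P i
      · exact congrArg Subtype.val (hfix1 ⟨i, hi⟩)
      · exact congrArg Subtype.val (hfix2 ⟨i, hi⟩)
    haveI := htr
    by_cases hpr : IsPreprimitive G I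
    · exact three3_of_primitive hsol h3
    obtain ⟨B, hB, hBnt⟩ : ∃ B : Set I, IsBlock G B ∧ ¬ IsTrivialBlock B := by
      by_contra hno
      push Not at hno
      exact hpr ⟨fun {B} hB => hno B hB⟩
    rw [IsTrivialBlock, not_or, Set.not_subsingleton_iff] at hBnt
    obtain ⟨⟨b0, hb0, b1, hb1, hbne⟩, hBu⟩ := hBnt
    have hBne : B.Nonempty := ⟨b0, hb0⟩
    have hsys := hB.isBlockSystem hBne
    let J := {j : Set I // ∃ g : G, g • B = j}
    letI : MulAction G J :=
      { smul := fun g j => ⟨g • j.1, by obtain ⟨h, hh⟩ := j.2; exact ⟨g * h, by rw [mul_smul, hh]⟩⟩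
        one_smul := fun j => Subtype.ext (one_smul G j.1)
        mul_smul := fun a b j => Subtype.ext (mul_smul a b j.1) }
    have hblk : ∀ i : I, ∃! j : J, i ∈ j.1 := by
      intro i
      obtain ⟨S, ⟨⟨g, hg⟩, hiS⟩, huniq⟩ := hsys.1.2 i
      exact ⟨⟨S, g, hg⟩, hiS, fun j hj => Subtype.ext (huniq j.1 ⟨by
        obtain ⟨h, hh⟩ := j.2; exact ⟨h, hh⟩, hj⟩)⟩
    choose blk hblk1 hblk2 using hblk
    haveI : Finite J := Subtype.finite
    haveI : Nonempty J := ⟨blk b0⟩
    have hJlt : Nat.card J < Nat.card I := by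
      have hsurj : Function.Surjective blk := by
        rintro ⟨S, g, rfl⟩
        exact ⟨g • b0, (hblk2 (g • b0) ⟨g • B, g, rfl⟩ (Set.smul_mem_smul_set hb0)).symm⟩
      refine lt_of_le_of_ne (Nat.card_le_card_of_surjective blk hsurj) fun he => ?_
      have hinj := ((Nat.bijective_iff_surjective_and_card blk).mpr ⟨hsurj, he.symm⟩).1
      exact hbne (hinj ((hblk2 b0 ⟨B, 1, one_smul G B⟩ hb0).symm.trans
        (hblk2 b1 ⟨B, 1, one_smul G B⟩ hb1)))
    let HB : Subgroup G := stabilizer G B
    letI : MulAction HB B :=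
      { smul := fun h i => ⟨(h : G) • i.1, by
          have := Set.smul_mem_smul_set (a := (h : G)) i.2
          rwa [show (h : G) • B = B from h.2] at this⟩
        one_smul := fun i => Subtype.ext (one_smul G i.1)
        mul_smul := fun a b i => Subtype.ext (mul_smul (a : G) (b : G) i.1) }
    haveI : Nonempty B := hBne.to_subtype
    have hBlt : Nat.card B < Nat.card I := by
      obtain ⟨x, hx⟩ := (Set.ne_univ_iff_exists_notMem B).mp hBu
      exact Finite.card_subtype_lt (p := fun i => i ∈ B) (x := x) hx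
    obtain ⟨cB, hcB⟩ := ih _ (hBlt.trans_le hn) HB B le_rfl inferInstance
      (h3.coprime_dvd_left (Subgroup.card_subgroup_dvd_card HB))
    obtain ⟨d, hd⟩ := ih _ (hJlt.trans_le hn) G J le_rfl hsol h3
    choose tr htr' using fun j : J => j.2
    have hmemB : ∀ i : I, (tr (blk i))⁻¹ • i ∈ B := fun i => by
      have h1 : i ∈ (blk i).1 := hblk1 i
      rw [← htr' (blk i)] at h1
      exact Set.mem_smul_set_iff_inv_smul_mem.mp h1
    refine ⟨fun a i => cB (d a (blk i)) ⟨(tr (blk i))⁻¹ • i, hmemB i⟩, fun g a b hg => ?_⟩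
    have hblkg : ∀ i, blk (g • i) = g • blk i := fun i =>
      (hblk2 (g • i) (g • blk i) (Set.smul_mem_smul_set (hblk1 i))).symm
    have hkmem : ∀ j : J, (tr (g • j))⁻¹ * g * tr j ∈ HB := fun j => by
      rw [mem_stabilizer_iff, mul_smul, mul_smul, htr' j]
      exact inv_smul_eq_iff.mpr (htr' (g • j)).symm
    have hloc : ∀ (j : J) (x : B),
        cB (d a (g • j)) ((⟨_, hkmem j⟩ : HB) • x) = cB (d b j) x := by
      intro j x
      have hb : blk (tr j • (x : I)) = j := by
        refine (hblk2 _ j ?_).symm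
        show tr j • (x : I) ∈ j.1
        rw [← htr' j]
        exact Set.smul_mem_smul_set x.2
      have h1 := hg (tr j • (x : I))
      simp only [hblkg, hb] at h1
      convert h1 using 2
      · apply Subtype.ext
        show ((tr (g • j))⁻¹ * g * tr j) • (x : I) = (tr (g • j))⁻¹ • g • tr j • (x : I)
        rw [mul_smul, mul_smul]
      · apply Subtype.ext
        show (x : I) = (tr j)⁻¹ • tr j • (x : I)
        rw [inv_smul_smul]
    have hall := fun j => hcB _ _ _ (hloc j)
    obtain ⟨hab, hfixJ⟩ := hd g a b fun j => (hall j).1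
    refine ⟨hab, fun i => ?_⟩
    have h2 : ((tr (g • blk i))⁻¹ * g * tr (blk i)) • ((tr (blk i))⁻¹ • i) = (tr (blk i))⁻¹ • i :=
      congrArg Subtype.val ((hall (blk i)).2 ⟨_, hmemB i⟩)
    rwa [hfixJ, mul_smul, mul_smul, smul_inv_smul, smul_left_cancel_iff] at h2

/-- Solvable permutation groups have three inequivalent distinguishing three-colourings. -/
theorem exists_three3 {G I : Type} [Group G] [Finite G] [MulAction G I] [Finite I] [Nonempty I]
    (hsol : Group.IsSolvable G) (h3 : (Nat.card G).Coprime 3) : ∃ c : Fin 3 → I → Fin 3, Three3 G I c :=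
  three3_aux _ G I le_rfl hsol h3

end Cfsg.Agent.BT62
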