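import Cfsg.Agent.BT62.Prim3.Binary

/-!
# A rigid three-colouring of the affine space of order sixteen
-/

set_option autoImplicit false

namespace Cfsg.Agent.BT62.Prim3

/-- The colour table. -/
def table (n : Nat) : Nat :=
  [2, 0, 2, 0, 1, 1, 0, 2, 0, 0, 2, 1, 0, 1, 2, 2].getD n 0

/-- The image of a point under the affine map given by the images of a frame. -/
def img (a b c d e v : Nat) : Nat :=
  Nat.xor a (Nat.xor (if v.testBit 0 then Nat.xor a b else 0) (Nat.xor
    (if v.testBit 1 then Nat.xor a c else 0) (Nat.xor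
    (if v.testBit 2 then Nat.xor a d else 0) (if v.testBit 3 then Nat.xor a e else 0))))

set_option synthInstance.maxSize 4000 in
set_option synthInstance.maxHeartbeats 400000 in
theorem table_rigid : ∀ a : Fin 16, table a = table 0 → ∀ b : Fin 16, table b = table 1 →
    ∀ c : Fin 16, table c = table 2 → table (img a b c 0 0 3) = table 3 →
    ∀ d : Fin 16, table d = table 4 → table (img a b c d 0 5) = table 5 →
      table (img a b c d 0 6) = table 6 → table (img a b c d 0 7) = table 7 →
    ∀ e : Fin 16, table e = table 8 →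
      (∀ v : Fin 16, table (img a b c d e v) = table v) →
      (a : Nat) = 0 ∧ (b : Nat) = 1 ∧ (c : Nat) = 2 ∧ (d : Nat) = 4 ∧ (e : Nat) = 8 := by
  decide +kernel

/-- The index of a vector. -/
def idx (v : Fin 4 → ZMod 2) : Fin 16 :=
  ⟨(v 0).val + 2 * (v 1).val + 4 * (v 2).val + 8 * (v 3).val, by
    have := (v 0).val_lt; have := (v 1).val_lt; have := (v 2).val_lt; have := (v 3).val_lt
    omega⟩

/-- The vector with a given index. -/
def vec (n : Nat) : Fin 4 → ZMod 2 := fun k => if n.testBit k then 1 else 0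

theorem idx_vec : ∀ n : Fin 16, idx (vec n) = n := by decide +kernel

theorem vec_idx : ∀ v : Fin 4 → ZMod 2, vec (idx v) = v := by decide +kernel

theorem vec_xor : ∀ a b : Fin 16, vec (Nat.xor a b) = vec a + vec b := by decide +kernel

/-- The colouring of the space of order sixteen. -/
def fourCol (v : Fin 4 → ZMod 2) : Fin 3 :=
  ⟨table (idx v) % 3, Nat.mod_lt _ (by norm_num)⟩

theorem table_lt : ∀ a : Fin 16, table a < 3 := by decide +kernel

theorem rigid_fourCol : Rigid fourCol := by
  intro T b hT hc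
  set g : Fin 16 → Fin 16 := fun n => idx (T (vec n) + b)
  have hcol : ∀ n, table (g n) = table n := fun n => by
    have h1 := congrArg Fin.val (hc (vec n))
    simp only [fourCol, idx_vec] at h1
    rwa [Nat.mod_eq_of_lt (table_lt _), Nat.mod_eq_of_lt (table_lt _)] at h1
  have hxor : ∀ a b : Fin 16, Nat.xor a b < 16 := fun a b => Nat.xor_lt_two_pow (n := 4) a.2 b.2
  have himg : ∀ n : Fin 16, img (g 0) (g 1) (g 2) (g 4) (g 8) n = g n := by
    have hv : ∀ n : Fin 16, vec (g n) = T (vec n) + b := fun n => vec_idx _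
    have hvi : ∀ a b c d e n : Fin 16, vec (img a b c d e n) =
        vec a + ((if n.1.testBit 0 then vec a + vec b else 0) +
        ((if n.1.testBit 1 then vec a + vec c else 0) +
        ((if n.1.testBit 2 then vec a + vec d else 0) +
        (if n.1.testBit 3 then vec a + vec e else 0)))) ∧ img a b c d e n < 16 := by
      intro a b c d e n
      have hz : vec 0 = 0 := by decide
      unfold img
      have l1 : (if n.1.testBit 0 then Nat.xor a b else 0) < 16 := by
        split_ifs <;> first | exact hxor _ _ | norm_num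
      have l2 : (if n.1.testBit 1 then Nat.xor a c else 0) < 16 := by
        split_ifs <;> first | exact hxor _ _ | norm_num
      have l3 : (if n.1.testBit 2 then Nat.xor a d else 0) < 16 := by
        split_ifs <;> first | exact hxor _ _ | norm_num
      have l4 : (if n.1.testBit 3 then Nat.xor a e else 0) < 16 := by
        split_ifs <;> first | exact hxor _ _ | norm_num
      have l34 := hxor ⟨_, l3⟩ ⟨_, l4⟩
      have l234 := hxor ⟨_, l2⟩ ⟨_, l34⟩
      have l1234 := hxor ⟨_, l1⟩ ⟨_, l234⟩
      refine ⟨?_, hxor a ⟨_, l1234⟩⟩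
      rw [vec_xor a ⟨_, l1234⟩, vec_xor ⟨_, l1⟩ ⟨_, l234⟩, vec_xor ⟨_, l2⟩ ⟨_, l34⟩,
        vec_xor ⟨_, l3⟩ ⟨_, l4⟩]
      congr 1
      congr 1
      · split_ifs <;> first | exact vec_xor _ _ | exact hz
      congr 1
      · split_ifs <;> first | exact vec_xor _ _ | exact hz
      congr 1
      · split_ifs <;> first | exact vec_xor _ _ | exact hz
      · split_ifs <;> first | exact vec_xor _ _ | exact hz
    intro n
    obtain ⟨h1, h2⟩ := hvi (g 0) (g 1) (g 2) (g 4) (g 8) n
    have e : idx (vec (img (g 0) (g 1) (g 2) (g 4) (g 8) n)) = ⟨_, h2⟩ := idx_vec ⟨_, h2⟩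
    refine congrArg Fin.val (e.symm.trans ?_)
    rw [h1, hv, hv, hv, hv, hv]
    show idx _ = idx _
    congr 1
    have hd : ∀ n : Fin 16, vec n = (if n.1.testBit 0 then vec 1 else 0) +
        ((if n.1.testBit 1 then vec 2 else 0) + ((if n.1.testBit 2 then vec 4 else 0) +
        (if n.1.testBit 3 then vec 8 else 0))) := by decide +kernel
    conv_rhs => rw [hd n]
    have hz0 : vec ((0 : Fin 16) : Nat) = 0 := by decide
    have hbb := add_self_binary b
    rw [hz0, map_zero, zero_add, map_add, map_add, map_add]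
    have key : ∀ x : Fin 4 → ZMod 2, b + (T x + b) = T x := fun x => by
      rw [← add_assoc, add_comm b (T x), add_assoc, hbb, add_zero]
    simp only [key, apply_ite T, map_zero]
    abel
  have h := table_rigid (g 0) (hcol 0) (g 1) (hcol 1) (g 2) (hcol 2)
    (by rw [show img (g 0) (g 1) (g 2) 0 0 3 = img (g 0) (g 1) (g 2) (g 4) (g 8) (3 : Fin 16) from rfl,
      himg]; exact hcol 3)
    (g 4) (hcol 4)
    (by rw [show img (g 0) (g 1) (g 2) (g 4) 0 5 = img (g 0) (g 1) (g 2) (g 4) (g 8) (5 : Fin 16) from rfl,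
      himg]; exact hcol 5)
    (by rw [show img (g 0) (g 1) (g 2) (g 4) 0 6 = img (g 0) (g 1) (g 2) (g 4) (g 8) (6 : Fin 16) from rfl,
      himg]; exact hcol 6)
    (by rw [show img (g 0) (g 1) (g 2) (g 4) 0 7 = img (g 0) (g 1) (g 2) (g 4) (g 8) (7 : Fin 16) from rfl,
      himg]; exact hcol 7)
    (g 8) (hcol 8) (fun v => by rw [himg]; exact hcol v)
  have hid : ∀ n : Fin 16, g n = n := fun n => Fin.ext (by
    rw [← himg n, h.1, h.2.1, h.2.2.1, h.2.2.2.1, h.2.2.2.2]
    revert n
    decide +kernel)
  intro v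
  have h1 := congrArg (fun n : Fin 16 => vec n) (hid (idx v))
  simp only [g, vec_idx] at h1
  exact h1

end Cfsg.Agent.BT62.Prim3
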