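import Mathlib
import Cfsg.Agent.Lib.Solvable.Maximal

/-!
# Stabilisers in small binary modules
-/

set_option autoImplicit false

namespace Cfsg.Agent.BT62.Prim3

open MulAction

universe u v

/-- An irreducible solvable group of order prime to three on at most eight binary vectors has
trivial vector stabilisers. -/
theorem stab_trivial_small {L : Type u} {V : Type v} [Group L] [Finite L] [Group.IsSolvable L]
    [AddCommGroup V] [Finite V] [DistribMulAction L V] [FaithfulSMul L V]
    (h3 : (Nat.card L).Coprime 3) (htwo : ∀ v : V, v + v = 0) (hV : Nat.card V = 4 ∨ Nat.card V = 8)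
    (hirr : ∀ U : AddSubgroup V, (∀ h : L, ∀ v ∈ U, h • v ∈ U) → U = ⊥ ∨ U = ⊤)
    {e : V} (he : e ≠ 0) {g : L} (hge : g • e = e) : g = 1 := by
  classical
  by_contra hg
  obtain ⟨N, ⟨hNn, hN0⟩, hmin⟩ : ∃ N, (N.Normal ∧ N ≠ ⊥) ∧
      ∀ K : Subgroup L, K.Normal → K ≤ N → K = ⊥ ∨ K = N := by
    obtain ⟨N, hN, hmin⟩ := Set.Finite.exists_minimal
      (s := {N : Subgroup L | N.Normal ∧ N ≠ ⊥}) (Set.toFinite _)
      ⟨⊤, inferInstance, fun h => hg (Subgroup.mem_bot.mp (h ▸ Subgroup.mem_top g))⟩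
    refine ⟨N, hN, fun K hK hKN => ?_⟩
    by_cases h : K = ⊥
    · exact Or.inl h
    · exact Or.inr (le_antisymm hKN (hmin ⟨hK, h⟩ hKN))
  haveI := hNn
  obtain ⟨q, hq, -, hNc, hNexp, -⟩ := Solvable.exists_prime_of_minimal_normal N hN0 hmin
  haveI : Fact q.Prime := ⟨hq⟩
  -- no nonzero vector is fixed by `N`
  let F : AddSubgroup V :=
    { carrier := {v | ∀ n ∈ N, n • v = v}
      zero_mem' := fun n _ => smul_zero n
      add_mem' := fun {a b} ha hb n hn => by rw [smul_add, ha n hn, hb n hn]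
      neg_mem' := fun {a} ha n hn => by rw [smul_neg, ha n hn] }
  have hF : F = ⊥ := by
    refine (hirr F fun h v hv n hn => ?_).resolve_right fun hFt => ?_
    · have h1 := hv (h⁻¹ * n * h) (by simpa using hNn.conj_mem n hn h⁻¹)
      rw [mul_smul, mul_smul, inv_smul_eq_iff] at h1
      exact h1
    · refine hN0 (le_bot_iff.mp fun n hn => Subgroup.mem_bot.mpr
        (eq_of_smul_eq_smul (α := V) fun v => ?_))
      have : v ∈ F := hFt ▸ AddSubgroup.mem_top v
      rw [one_smul]
      exact this n hn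
  have hpg : IsPGroup q N := fun n => ⟨1, by rw [pow_one]; exact Subtype.ext (hNexp _ n.2)⟩
  have hfix : Nat.card (fixedPoints N V) = 1 := by
    have hset : fixedPoints N V = {0} := by
      ext v
      refine ⟨fun hv => ?_, fun hv n => by rw [hv]; exact smul_zero (n : L)⟩
      have : v ∈ F := fun n hn => hv ⟨n, hn⟩
      rw [hF, AddSubgroup.mem_bot] at this
      exact this
    simp [hset]
  have hmod := hpg.card_modEq_card_fixedPoints V
  rw [hfix] at hmod
  have hq3 : q ≠ 3 := by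
    rintro rfl
    obtain ⟨x, hx, hx1⟩ := N.bot_or_exists_ne_one.resolve_left hN0
    have h1 : orderOf x = 3 := orderOf_eq_prime (hNexp x hx) hx1
    have h2 := orderOf_dvd_natCard x
    rw [h1] at h2
    exact (Nat.prime_three.coprime_iff_not_dvd.mp h3.symm) h2
  have hq7 : q = 7 ∧ Nat.card V = 8 := by
    have h1 : q ∣ Nat.card V - 1 := (Nat.modEq_iff_dvd' (by rcases hV with h | h <;> omega)).mp hmod.symm
    rcases hV with h | h <;> rw [h] at h1
    · exact absurd ((Nat.prime_dvd_prime_iff_eq hq Nat.prime_three).mp h1) hq3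
    · exact ⟨(Nat.prime_dvd_prime_iff_eq hq (by norm_num)).mp h1, h⟩
  obtain ⟨rfl, hV8⟩ := hq7
  -- every nonzero vector is in the orbit of `e`
  have horb : ∀ v : V, v ≠ 0 → ∃ n : N, (n : L) • e = v := by
    have hne : (e : V) ∉ fixedPoints N V := fun h => he (by
      have : e ∈ F := fun n hn => h ⟨n, hn⟩
      rw [hF, AddSubgroup.mem_bot] at this
      exact this)
    obtain ⟨k, hk⟩ := hpg.card_orbit e
    have hk0 : k ≠ 0 := by
      rintro rfl
      rw [pow_zero] at hk
      haveI := (Nat.card_eq_one_iff_unique.mp hk).1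
      refine hne fun n => ?_
      exact congrArg Subtype.val
        (Subsingleton.elim (⟨n • e, mem_orbit e n⟩ : orbit N e) ⟨e, mem_orbit_self e⟩)
    have hsub : orbit N e ⊆ ({0} : Set V)ᶜ := by
      rintro _ ⟨n, rfl⟩ h
      exact he ((smul_eq_zero_iff_eq (n : L)).mp h)
    have hc : ({0} : Set V)ᶜ.ncard = 7 := by
      rw [Set.ncard_compl, Set.ncard_singleton, hV8]
    have heq : orbit N e = ({0} : Set V)ᶜ := by
      refine Set.eq_of_subset_of_ncard_le hsub ?_ (Set.toFinite _)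
      rw [hc, ← Nat.card_coe_set_eq, hk]
      calc 7 = 7 ^ 1 := (pow_one 7).symm
        _ ≤ 7 ^ k := Nat.pow_le_pow_right (by norm_num) (by omega)
    intro v hv
    obtain ⟨n, hn⟩ : v ∈ orbit N e := heq ▸ hv
    exact ⟨n, hn⟩
  have hreg : ∀ n : L, n ∈ N → n • e = e → n = 1 := by
    intro n hn hne
    refine eq_of_smul_eq_smul (α := V) fun v => ?_
    rw [one_smul]
    by_cases hv : v = 0
    · rw [hv, smul_zero]
    obtain ⟨m, rfl⟩ := horb v hv
    rw [← mul_smul, show n * (m : L) = (m : L) * n from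
      congrArg Subtype.val (mul_comm' (⟨n, hn⟩ : N) m), mul_smul, hne]
  have hN7 : Nat.card N ≤ 7 := by
    have hinj : Function.Injective fun m : N =>
        (⟨(m : L) • e, fun h0 => he ((smul_eq_zero_iff_eq (m : L)).mp h0)⟩ : (({0} : Set V)ᶜ : Set V)) := by
      intro a b hab
      have h1 : ((b : L)⁻¹ * a) • e = e := by
        rw [mul_smul, inv_smul_eq_iff]
        exact congrArg Subtype.val hab
      exact Subtype.ext (inv_mul_eq_one.mp (hreg _ (N.mul_mem (N.inv_mem b.2) a.2) h1)).symm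
    refine (Nat.card_le_card_of_injective _ hinj).trans ?_
    rw [Nat.card_coe_set_eq, Set.ncard_compl, Set.ncard_singleton, hV8]
  -- an element with a second fixed vector centralises `N`
  have hcyc : ∀ (h : L), h • e = e → ∀ n : N, (n : L) ≠ 1 → h * n * h⁻¹ = n → h = 1 := by
    intro h hh n hn1 hcomm
    have hgen : ∀ m : N, m ∈ Subgroup.zpowers n := by
      have h7 : orderOf n = 7 := orderOf_eq_prime (Subtype.ext (hNexp _ n.2)) fun e => hn1 (congrArg Subtype.val e)
      have htop : Subgroup.zpowers n = ⊤ := Subgroup.eq_top_of_le_card _ (by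
        rw [Nat.card_zpowers, h7]; exact hN7)
      exact fun m => htop ▸ Subgroup.mem_top m
    have hc : Commute h (n : L) := mul_inv_eq_iff_eq_mul.mp hcomm
    refine eq_of_smul_eq_smul (α := V) fun v => ?_
    rw [one_smul]
    by_cases hv : v = 0
    · rw [hv, smul_zero]
    obtain ⟨m, rfl⟩ := horb v hv
    obtain ⟨k, rfl⟩ := Subgroup.mem_zpowers_iff.mp (hgen m)
    rw [← mul_smul, SubgroupClass.coe_zpow, (hc.zpow_right k).eq, mul_smul, hh]
  obtain ⟨n₀, hn₀, hn₁⟩ := N.bot_or_exists_ne_one.resolve_left hN0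
  -- the square of `g` is trivial
  have hsq : g ^ 2 = 1 := by
    obtain ⟨k, hk⟩ : ∃ k : ℕ, g * n₀ * g⁻¹ = n₀ ^ k := by
      have h7 : orderOf (⟨n₀, hn₀⟩ : N) = 7 :=
        orderOf_eq_prime (Subtype.ext (hNexp _ hn₀)) fun e => hn₁ (congrArg Subtype.val e)
      have htop : Subgroup.zpowers (⟨n₀, hn₀⟩ : N) = ⊤ := Subgroup.eq_top_of_le_card _ (by
        rw [Nat.card_zpowers, h7]; exact hN7)
      obtain ⟨k, hk⟩ := mem_powers_iff_mem_zpowers.mpr
        (htop ▸ Subgroup.mem_top (⟨g * n₀ * g⁻¹, hNn.conj_mem _ hn₀ g⟩ : N))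
      exact ⟨k, (congrArg Subtype.val hk).symm⟩
    have hiter : ∀ j : ℕ, g ^ j * n₀ * (g ^ j)⁻¹ = n₀ ^ (k ^ j) := by
      intro j
      induction j with
      | zero => simp
      | succ j ih =>
        rw [pow_succ' g j, pow_succ k j, pow_mul]
        calc g * g ^ j * n₀ * (g * g ^ j)⁻¹ = g * (g ^ j * n₀ * (g ^ j)⁻¹) * g⁻¹ := by group
          _ = g * n₀ ^ (k ^ j) * g⁻¹ := by rw [ih]
          _ = (g * n₀ * g⁻¹) ^ (k ^ j) := (conj_pow).symm
          _ = _ := by rw [hk, ← pow_mul, ← pow_mul, mul_comm]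
    have h7 : n₀ ^ 7 = 1 := hNexp _ hn₀
    have h6 : g ^ 6 = 1 := by
      refine hcyc _ ?_ ⟨n₀, hn₀⟩ hn₁ ?_
      · have : g ∈ stabilizer L e := hge
        exact pow_mem this 6
      show g ^ 6 * n₀ * (g ^ 6)⁻¹ = n₀
      rw [hiter 6]
      have hk7 : k.Coprime 7 := by
        refine ((Nat.Prime.coprime_iff_not_dvd (by norm_num : (7 : ℕ).Prime)).mpr ?_).symm
        rintro ⟨m, rfl⟩
        rw [pow_mul, h7, one_pow, mul_inv_eq_one, mul_eq_left] at hk
        exact hn₁ hk
      have hmod6 : k ^ 6 ≡ 1 [MOD 7] := by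
        have := Nat.ModEq.pow_totient hk7
        rwa [Nat.totient_prime (by norm_num)] at this
      have h7o : orderOf n₀ = 7 := orderOf_eq_prime h7 hn₁
      calc n₀ ^ (k ^ 6) = n₀ ^ 1 := pow_eq_pow_iff_modEq.mpr (h7o ▸ hmod6)
        _ = n₀ := pow_one n₀
    have hco : (orderOf g).Coprime 3 := h3.coprime_dvd_left (orderOf_dvd_natCard g)
    exact orderOf_dvd_iff_pow_eq_one.mp
      (hco.dvd_of_dvd_mul_right (orderOf_dvd_of_pow_eq_one h6 : orderOf g ∣ 2 * 3))
  -- a second fixed vector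
  obtain ⟨w, hw0, hwe, hgw⟩ : ∃ w : V, w ≠ 0 ∧ w ≠ e ∧ g • w = w := by
    let f : V →+ V := DistribMulAction.toAddMonoidHom V g + AddMonoidHom.id V
    have hker : ∀ v, v ∈ f.ker ↔ g • v = v := fun v => by
      rw [AddMonoidHom.mem_ker]
      show g • v + v = 0 ↔ _
      rw [← sub_eq_zero (a := g • v) (b := v), sub_eq_add_neg, neg_eq_of_add_eq_zero_right (htwo v)]
    have hrange : f.range ≤ f.ker := by
      rintro _ ⟨v, rfl⟩
      rw [hker]
      show g • (g • v + v) = g • v + v
      rw [smul_add, ← mul_smul, ← pow_two, hsq, one_smul, add_comm]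
    have h1 := f.ker.card_eq_card_quotient_mul_card_addSubgroup
    rw [Nat.card_congr (QuotientAddGroup.quotientKerEquivRange f).toEquiv] at h1
    have h2 := AddSubgroup.card_le_of_le hrange
    have h8 : 3 ≤ Nat.card f.ker := by
      by_contra hlt
      have := Nat.mul_le_mul h2 (le_refl (Nat.card f.ker))
      have hle : Nat.card f.ker ≤ 2 := by omega
      nlinarith
    by_contra hno
    push Not at hno
    have hsub : (f.ker : Set V) ⊆ {0, e} := fun v hv => by
      by_cases hv0 : v = 0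
      · exact Or.inl hv0
      · refine Or.inr ?_
        by_contra hve
        exact hno v hv0 hve ((hker v).mp hv)
    have h9 := Set.ncard_le_ncard hsub (Set.toFinite _)
    rw [← Nat.card_coe_set_eq] at h9
    have h10 : ({0, e} : Set V).ncard ≤ 2 := (Set.ncard_insert_le _ _).trans (by simp)
    have : Nat.card (f.ker : Set V) = Nat.card f.ker := rfl
    omega
  obtain ⟨n, rfl⟩ := horb w hw0
  refine hg (hcyc g hge n (fun h1 => hwe (by rw [h1, one_smul])) ?_)
  have h1 : (g * (n : L) * g⁻¹) • e = (n : L) • e := by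
    rw [mul_smul, mul_smul, inv_smul_eq_iff.mpr hge.symm, hgw]
  have h2 : ((n : L)⁻¹ * (g * n * g⁻¹)) • e = e := by rw [mul_smul, inv_smul_eq_iff]; exact h1
  exact (inv_mul_eq_one.mp (hreg _ (N.mul_mem (N.inv_mem n.2) (hNn.conj_mem _ n.2 g)) h2)).symm

end Cfsg.Agent.BT62.Prim3
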