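import Cfsg.Agent.BT62.Prim3.Rigid

/-!
# Rigid three-colourings of binary spaces
-/

set_option autoImplicit false

namespace Cfsg.Agent.BT62.Prim3

variable {D : ℕ}

theorem add_self_binary (v : Fin D → ZMod 2) : v + v = 0 := by
  funext j
  exact (show ∀ x : ZMod 2, x + x = 0 by decide) (v j)

/-- An affine map respects sums of three points. -/
theorem affine_three (T : (Fin D → ZMod 2) →+ (Fin D → ZMod 2)) (b x y z : Fin D → ZMod 2) :
    T (x + y + z) + b = (T x + b) + (T y + b) + (T z + b) := by
  rw [map_add, map_add]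
  linear_combination (norm := module) -(add_self_binary b)

section Simplex

/-- The vertices of a simplex. -/
def pt (D i : ℕ) : Fin D → ZMod 2 := fun j => if (j : ℕ) + 1 = i then 1 else 0

/-- Barycentric coordinates. -/
def bary (v : Fin D → ZMod 2) (x : ℕ) : ZMod 2 :=
  if x = 0 then 1 + ∑ j, v j else if h : x - 1 < D then v ⟨x - 1, h⟩ else 0

theorem bary_three (v w u : Fin D → ZMod 2) (x : ℕ) :
    bary (v + w + u) x = bary v x + bary w x + bary u x := by
  have h3 : (1 : ZMod 2) + 1 = 0 := by decide
  unfold bary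
  split_ifs <;> simp only [Pi.add_apply, Finset.sum_add_distrib, add_zero]
  linear_combination -h3

theorem bary_pt {i : ℕ} (hi : i ≤ D) {x : ℕ} (hx : x ≤ D) :
    bary (pt D i) x = if x = i then 1 else 0 := by
  unfold bary
  rcases i with _ | i
  · split_ifs with h <;> simp [pt] <;> omega
  · split_ifs with h1 h2 h3 h4
    · omega
    · rw [Finset.sum_eq_single ⟨i, by omega⟩]
      · simp [pt]; decide
      · intro j _ hj
        simp only [pt]
        rw [if_neg]
        intro h
        exact hj (Fin.ext (by simpa using h))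
      · simp
    · simp [pt]; omega
    · simp [pt]; omega
    · omega
    · omega

theorem pt_inj {i j : ℕ} (hi : i ≤ D) (hj : j ≤ D) (h : pt D i = pt D j) : i = j := by
  have h1 := bary_pt (D := D) hi hi
  rw [h, bary_pt hj hi, if_pos rfl] at h1
  by_contra hne
  rw [if_neg hne] at h1
  exact zero_ne_one h1

/-- The first vertex of an edge. -/
def ea (D i : ℕ) : ℕ := if i + 2 ≤ D then i else 0
/-- The second vertex of an edge. -/
def eb (D i : ℕ) : ℕ := if i + 2 ≤ D then i + 1 else 1
/-- The third vertex of an edge. -/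
def ec (D i : ℕ) : ℕ := if i + 2 ≤ D then i + 2 else 3

/-- Membership in an edge. -/
def emem (D i x : ℕ) : Prop := x = ea D i ∨ x = eb D i ∨ x = ec D i

instance (D i x : ℕ) : Decidable (emem D i x) := by unfold emem; infer_instance

/-- The vector of an edge. -/
def evec (D i : ℕ) : Fin D → ZMod 2 := pt D (ea D i) + pt D (eb D i) + pt D (ec D i)

open Classical in
/-- The colouring of a binary space. -/
noncomputable def binCol (v : Fin D → ZMod 2) : Fin 3 :=
  if ∃ i, i ≤ D ∧ v = pt D i then 0 else if ∃ i, i < D ∧ v = evec D i then 1 else 2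

theorem edge_le (hD : 5 ≤ D) (i : ℕ) : ea D i ≤ D ∧ eb D i ≤ D ∧ ec D i ≤ D := by
  unfold ea eb ec
  split_ifs <;> omega

theorem bary_evec (hD : 5 ≤ D) (i : ℕ) {x : ℕ} (hx : x ≤ D) :
    bary (evec D i) x = if emem D i x then 1 else 0 := by
  obtain ⟨h1, h2, h3⟩ := edge_le hD i
  rw [evec, bary_three, bary_pt h1 hx, bary_pt h2 hx, bary_pt h3 hx]
  unfold emem ea eb ec
  split_ifs <;> first | (exfalso; omega) | decide

theorem evec_ne_pt (hD : 5 ≤ D) (i j : ℕ) (hj : j ≤ D) : evec D i ≠ pt D j := by
  intro h
  obtain ⟨h1, h2, -⟩ := edge_le hD i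
  have e1 := bary_evec hD i h1
  rw [h, bary_pt hj h1, if_pos (show emem D i (ea D i) from Or.inl rfl)] at e1
  have e2 := bary_evec hD i h2
  rw [h, bary_pt hj h2, if_pos (show emem D i (eb D i) from Or.inr (Or.inl rfl))] at e2
  have hab : ea D i ≠ eb D i := by unfold ea eb; split_ifs <;> omega
  by_cases h' : ea D i = j
  · rw [if_neg fun e => hab (h'.trans e.symm)] at e2
    exact zero_ne_one e2
  · rw [if_neg h'] at e1
    exact zero_ne_one e1

theorem edge_inj (hD : 5 ≤ D) {i j : ℕ} (hi : i < D) (hj : j < D)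
    (h : ∀ x, x ≤ D → (emem D i x ↔ emem D j x)) : i = j := by
  obtain ⟨h1, h2, h3⟩ := edge_le hD i
  have a1 := (h _ h1).mp (Or.inl rfl)
  have a2 := (h _ h2).mp (Or.inr (Or.inl rfl))
  have a3 := (h _ h3).mp (Or.inr (Or.inr rfl))
  revert a1 a2 a3
  unfold emem ea eb ec
  split_ifs <;> intros <;> (try simp only [false_or, or_false] at *) <;> omega

/-- Only the identity preserves the edges. -/
theorem edges_rigid (hD : 5 ≤ D) (σ π : ℕ → ℕ) (hσ : ∀ x, x ≤ D → σ x ≤ D)
    (hσi : ∀ x y, x ≤ D → y ≤ D → σ x = σ y → x = y) (hπ : ∀ i, i < D → π i < D)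
    (hmem : ∀ i, i < D → ∀ x, x ≤ D → (emem D (π i) (σ x) ↔ emem D i x)) :
    ∀ x, x ≤ D → σ x = x := by
  have hπs : ∀ j, j < D → ∃ i, i < D ∧ π i = j := by
    intro j hj
    let f : Fin D → Fin D := fun i => ⟨π i, hπ i i.2⟩
    have hf : Function.Injective f := fun a b e => Fin.ext (edge_inj hD a.2 b.2 fun x hx => by
      rw [← hmem a a.2 x hx, ← hmem b b.2 x hx, show π a = π b from congrArg Fin.val e])
    obtain ⟨i, hi⟩ := (Finite.injective_iff_surjective.mp hf) ⟨j, hj⟩
    exact ⟨i, i.2, congrArg Fin.val hi⟩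
  have hlast : σ D = D := by
    by_contra hne
    have hu := hσ D le_rfl
    obtain ⟨j, k, hj, hk, hjk, hju, hku⟩ : ∃ j k, j < D ∧ k < D ∧ j ≠ k ∧
        emem D j (σ D) ∧ emem D k (σ D) := by
      by_cases h1 : σ D = 0
      · exact ⟨0, D - 1, by omega, by omega, by omega,
          by unfold emem ea eb ec; split_ifs <;> omega,
          by unfold emem ea eb ec; split_ifs <;> omega⟩
      by_cases h2 : σ D ≤ 2
      · exact ⟨0, 1, by omega, by omega, by omega,
          by unfold emem ea eb ec; split_ifs <;> omega,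
          by unfold emem ea eb ec; split_ifs <;> omega⟩
      exact ⟨σ D - 1, σ D - 2, by omega, by omega, by omega,
          by unfold emem ea eb ec; split_ifs <;> omega,
          by unfold emem ea eb ec; split_ifs <;> omega⟩
    obtain ⟨a, ha, rfl⟩ := hπs j hj
    obtain ⟨b, hb, rfl⟩ := hπs k hk
    have e1 := (hmem a ha D le_rfl).mp hju
    have e2 := (hmem b hb D le_rfl).mp hku
    refine hjk (congrArg π ?_)
    revert e1 e2
    unfold emem ea eb ec
    split_ifs <;> intros <;> (try simp only [false_or, or_false] at *) <;> omega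
  have htop : π (D - 2) = D - 2 := by
    have := (hmem (D - 2) (by omega) D le_rfl).mpr (by
      unfold emem ea eb ec; split_ifs <;> omega)
    rw [hlast] at this
    have h2 := hπ (D - 2) (by omega)
    revert this
    unfold emem ea eb ec
    split_ifs <;> intros <;> (try simp only [false_or, or_false] at *) <;> omega
  have hsec : σ (D - 1) = D - 1 := by
    have hne : σ (D - 1) ≠ D := fun e => by
      have := hσi (D - 1) D (by omega) le_rfl (e.trans hlast.symm); omega
    have h1 : σ (D - 1) = D - 1 ∨ σ (D - 1) = D - 2 := by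
      have := (hmem (D - 2) (by omega) (D - 1) (by omega)).mpr (by
        unfold emem ea eb ec; split_ifs <;> omega)
      rw [htop] at this
      revert this
      unfold emem ea eb ec
      split_ifs <;> intros <;> (try simp only [false_or, or_false] at *) <;> omega
    refine h1.resolve_right fun h2 => ?_
    obtain ⟨a, ha, ea'⟩ := hπs (D - 4) (by omega)
    obtain ⟨b, hb, eb'⟩ := hπs (D - 3) (by omega)
    obtain ⟨c, hc, ec'⟩ := hπs (D - 2) (by omega)
    have ma := (hmem a ha (D - 1) (by omega)).mp (by
      rw [ea', h2]; unfold emem ea eb ec; split_ifs <;> omega)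
    have mb := (hmem b hb (D - 1) (by omega)).mp (by
      rw [eb', h2]; unfold emem ea eb ec; split_ifs <;> omega)
    have mc := (hmem c hc (D - 1) (by omega)).mp (by
      rw [ec', h2]; unfold emem ea eb ec; split_ifs <;> omega)
    have key : ∀ i, i < D → emem D i (D - 1) → i = D - 2 ∨ i = D - 3 := by
      intro i hi
      unfold emem ea eb ec
      split_ifs <;> intros <;> (try simp only [false_or, or_false] at *) <;> omega
    rcases key a ha ma with rfl | rfl <;> rcases key b hb mb with rfl | rfl <;>
      rcases key c hc mc with rfl | rfl <;> omega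
  have hall : ∀ n x, x ≤ D → D ≤ x + n → σ x = x := by
    intro n
    induction n with
    | zero => intro x hx hn; obtain rfl : x = D := by omega
              exact hlast
    | succ n ih =>
      intro x hx hn
      by_cases hxD : x = D
      · exact hxD ▸ hlast
      by_cases hxD1 : x = D - 1
      · exact hxD1 ▸ hsec
      have f1 := ih (x + 1) (by omega) (by omega)
      have f2 := ih (x + 2) (by omega) (by omega)
      have hi : x < D := by omega
      have m1 := (hmem x hi (x + 1) (by omega)).mpr (by
        unfold emem ea eb ec; split_ifs <;> omega)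
      have m2 := (hmem x hi (x + 2) (by omega)).mpr (by
        unfold emem ea eb ec; split_ifs <;> omega)
      have m0 := (hmem x hi x hx).mpr (by
        unfold emem ea eb ec; split_ifs <;> omega)
      rw [f1] at m1
      rw [f2] at m2
      have hne1 : σ x ≠ x + 1 := fun e => by
        have := hσi x (x + 1) hx (by omega) (e.trans f1.symm); omega
      have hne2 : σ x ≠ x + 2 := fun e => by
        have := hσi x (x + 2) hx (by omega) (e.trans f2.symm); omega
      have hne3 : x + 3 ≤ D → σ x ≠ x + 3 := fun hle e => by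
        have f3 := ih (x + 3) hle (by omega)
        have := hσi x (x + 3) hx hle (e.trans f3.symm); omega
      have hπx := hπ x hi
      revert m0 m1 m2
      unfold emem ea eb ec
      split_ifs <;> intros <;> (try simp only [false_or, or_false] at *) <;> omega
  exact fun x hx => hall D x hx (by omega)

theorem rigid_binCol (hD : 5 ≤ D) : Rigid (binCol (D := D)) := by
  classical
  intro T b hT hc
  have h0 : ∀ v, binCol v = 0 ↔ ∃ i, i ≤ D ∧ v = pt D i := fun v => by
    unfold binCol
    split_ifs with h1 h2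
    · exact iff_of_true rfl h1
    · exact iff_of_false (by decide) h1
    · exact iff_of_false (by decide) h1
  have hσex : ∀ x, ∃ y, x ≤ D → y ≤ D ∧ T (pt D x) + b = pt D y := by
    intro x
    by_cases hx : x ≤ D
    · obtain ⟨y, hy, he⟩ := (h0 _).mp ((hc (pt D x)).trans ((h0 _).mpr ⟨x, hx, rfl⟩))
      exact ⟨y, fun _ => ⟨hy, he⟩⟩
    · exact ⟨0, fun h => absurd h hx⟩
  choose σ hσ using hσex
  have hπex : ∀ i, ∃ j, i < D → j < D ∧ T (evec D i) + b = evec D j := by
    intro i
    by_cases hi : i < D
    · have h1 : binCol (evec D i) = 1 := by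
        unfold binCol
        rw [if_neg (fun ⟨j, hj, e⟩ => evec_ne_pt hD i j hj e), if_pos ⟨i, hi, rfl⟩]
      have h2 := (hc (evec D i)).trans h1
      revert h2
      unfold binCol
      split_ifs with h3 h4 <;> intro h2
      · exact absurd h2 (by decide)
      · obtain ⟨j, hj, e⟩ := h4
        exact ⟨j, fun _ => ⟨hj, e⟩⟩
      · exact absurd h2 (by decide)
    · exact ⟨0, fun h => absurd h hi⟩
  choose π hπ using hπex
  have hσi : ∀ x y, x ≤ D → y ≤ D → σ x = σ y → x = y := fun x y hx hy e =>
    pt_inj hx hy (hT (add_right_cancel ((hσ x hx).2.trans (e ▸ (hσ y hy).2.symm))))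
  have hmem : ∀ i, i < D → ∀ x, x ≤ D → (emem D (π i) (σ x) ↔ emem D i x) := by
    intro i hi x hx
    obtain ⟨h1, h2, h3⟩ := edge_le hD i
    have e1 := bary_evec hD (π i) (hσ x hx).1
    rw [← (hπ i hi).2, evec, affine_three, (hσ _ h1).2, (hσ _ h2).2, (hσ _ h3).2, bary_three,
      bary_pt (hσ _ h1).1 (hσ x hx).1, bary_pt (hσ _ h2).1 (hσ x hx).1,
      bary_pt (hσ _ h3).1 (hσ x hx).1] at e1
    have key : ∀ y, y ≤ D → (σ x = σ y ↔ x = y) := fun y hy => ⟨hσi x y hx hy, congrArg σ⟩
    simp only [key _ h1, key _ h2, key _ h3] at e1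
    have e2 := bary_evec hD i hx
    rw [evec, bary_three, bary_pt h1 hx, bary_pt h2 hx, bary_pt h3 hx, e1] at e2
    split_ifs at e2 with a1 a2 a3
    · exact iff_of_true a1 a2
    · exact absurd e2.symm zero_ne_one
    · exact absurd e2 zero_ne_one
    · exact iff_of_false a1 a3
  have hid := edges_rigid hD σ π (fun x hx => (hσ x hx).1) hσi (fun i hi => (hπ i hi).1) hmem
  have hfix : ∀ x, x ≤ D → T (pt D x) + b = pt D x := fun x hx => by
    rw [(hσ x hx).2, hid x hx]
  have hz : pt D 0 = 0 := funext fun j => if_neg (by omega)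
  have hb : b = 0 := by simpa [hz] using hfix 0 (Nat.zero_le _)
  intro v
  rw [hb, add_zero]
  refine eq_id_of_ev T (fun k hk => ?_) v
  have e : ev 2 D k = pt D (k + 1) := funext fun j => by simp [ev, pt]
  simpa [hb, e] using hfix (k + 1) hk

end Simplex

end Cfsg.Agent.BT62.Prim3
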