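import Mathlib

/-!
# Rigid three-colourings of coordinate spaces
-/

set_option autoImplicit false

namespace Cfsg.Agent.BT62.Prim3

variable {p D : ℕ}

/-- No affine bijection other than the identity preserves the colouring. -/
def Rigid (c : (Fin D → ZMod p) → Fin 3) : Prop :=
  ∀ (T : (Fin D → ZMod p) →+ (Fin D → ZMod p)) (b : Fin D → ZMod p),
    Function.Injective T → (∀ v, c (T v + b) = c v) → ∀ v, T v + b = v

/-- The unit vectors. -/
def ev (p : ℕ) (D k : ℕ) : Fin D → ZMod p := fun j => if (j : ℕ) = k then 1 else 0

theorem ev_self {k : ℕ} (hk : k < D) : ev p D k ⟨k, hk⟩ = 1 := if_pos rfl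

theorem eq_id_of_ev (T : (Fin D → ZMod p) →+ (Fin D → ZMod p))
    (h : ∀ k, k < D → T (ev p D k) = ev p D k) [NeZero p] (v : Fin D → ZMod p) : T v = v := by
  have hv : v = ∑ i : Fin D, (v i).val • ev p D i := by
    funext j
    rw [Finset.sum_apply, Finset.sum_eq_single j]
    · simp [Pi.smul_apply, ev, nsmul_eq_mul]
    · intro k _ hk
      simp [Pi.smul_apply, ev, Fin.val_ne_of_ne hk.symm]
    · simp
  rw [hv, map_sum]
  exact Finset.sum_congr rfl fun i _ => by rw [map_nsmul, h i i.2]

section Odd

variable (p D)

/-- The support set. -/
def SSet : Set (Fin D → ZMod p) :=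
  {v | (∃ l, l < D ∧ v = ev p D l) ∨ (0 < D ∧ v = ev p D 0 + ev p D 0) ∨
    ∃ l, l + 1 < D ∧ v = ev p D l + (ev p D (l + 1) + ev p D (l + 1))}

open Classical in
/-- The colouring for characteristic at least five. -/
noncomputable def oddCol (v : Fin D → ZMod p) : Fin 3 :=
  if v = 0 then 0 else if v ∈ SSet p D then 1 else 2

variable {p D}

theorem rigid_oddCol [Fact p.Prime] (hp : 5 ≤ p) : Rigid (oddCol p D) := by
  classical
  intro T b hT hc
  have hcast : ∀ n : ℕ, 0 < n → n < 5 → (n : ZMod p) ≠ 0 := fun n hn hn5 h =>
    absurd (Nat.le_of_dvd hn ((ZMod.natCast_eq_zero_iff n p).mp h)) (by omega)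
  have c2 : (1 : ZMod p) + 1 ≠ 0 := fun h => hcast 2 (by norm_num) (by norm_num) (by push_cast; linear_combination h)
  have c3 : (1 : ZMod p) + 1 + 1 ≠ 0 := fun h => hcast 3 (by norm_num) (by norm_num) (by push_cast; linear_combination h)
  have c4 : (1 : ZMod p) + 1 + (1 + 1) ≠ 0 := fun h => hcast 4 (by norm_num) (by norm_num) (by push_cast; linear_combination h)
  have h0iff : ∀ v, oddCol p D v = 0 ↔ v = 0 := fun v => by
    unfold oddCol
    split_ifs with h1 h2 <;> simp [h1]
  have hb : b = 0 := by
    have := hc 0
    rw [map_zero, zero_add, (h0iff 0).mpr rfl] at this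
    exact (h0iff b).mp this
  subst hb
  simp only [add_zero] at hc ⊢
  have hne : ∀ v ∈ SSet p D, v ≠ 0 := by
    intro v hv h0
    rcases hv with ⟨l, hl, rfl⟩ | ⟨hD, rfl⟩ | ⟨l, hl, rfl⟩
    · have := congrFun h0 ⟨l, hl⟩
      simp [ev] at this
    · have := congrFun h0 ⟨0, hD⟩
      simp [ev, c2] at this
    · have := congrFun h0 ⟨l + 1, hl⟩
      simp [ev, c2] at this
  have hS : ∀ v ∈ SSet p D, T v ∈ SSet p D := by
    intro v hv
    have h1 := hc v
    rw [show oddCol p D v = 1 by unfold oddCol; rw [if_neg (hne v hv), if_pos hv]] at h1
    revert h1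
    unfold oddCol
    split_ifs with h2 h3 <;> intro h1
    · exact absurd h1 (by decide)
    · exact h3
    · exact absurd h1 (by decide)
  have hfix : ∀ k, k < D → T (ev p D k) = ev p D k := by
    intro k
    induction k using Nat.strong_induction_on with
    | _ k ih =>
      intro hk
      have h1 := hS _ (Or.inl ⟨k, hk, rfl⟩)
      rcases k with _ | k
      · have h2 := hS _ (Or.inr (Or.inl ⟨hk, rfl⟩))
        rw [map_add] at h2
        rcases h1 with ⟨l, hl, e⟩ | ⟨-, e⟩ | ⟨l, hl, e⟩ <;> rw [e] at h2 ⊢
        · rcases h2 with ⟨m, hm, e'⟩ | ⟨-, e'⟩ | ⟨m, hm, e'⟩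
          · have := congrFun e' ⟨l, hl⟩
            simp only [Pi.add_apply, ev] at this
            by_cases hlm : l = m <;> simp [hlm, c2] at this
          · have := congrFun e' ⟨l, hl⟩
            simp only [Pi.add_apply, ev] at this
            by_cases hl0 : l = 0
            · rw [hl0]
            · simp [hl0, c2] at this
          · have a1 := congrFun e' ⟨m + 1, hm⟩
            have a2 := congrFun e' ⟨m, by omega⟩
            simp only [Pi.add_apply, ev] at a1 a2
            by_cases hlm : m + 1 = l
            · subst hlm
              simp at a2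
            · simp [hlm, c2, c2.symm] at a1
        · rcases h2 with ⟨m, hm, e'⟩ | ⟨-, e'⟩ | ⟨m, hm, e'⟩
          · have := congrFun e' ⟨0, hk⟩
            simp only [Pi.add_apply, ev] at this
            by_cases h0m : (0 : ℕ) = m
            · simp [← h0m] at this
              exact absurd (by linear_combination this) c3
            · simp [h0m, c4] at this
          · have := congrFun e' ⟨0, hk⟩
            simp [ev] at this
            exact absurd (by linear_combination this) c2
          · have := congrFun e' ⟨m + 1, hm⟩
            simp [ev, c2.symm] at this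
        · rcases h2 with ⟨m, hm, e'⟩ | ⟨-, e'⟩ | ⟨m, hm, e'⟩
          · have a1 := congrFun e' ⟨l, by omega⟩
            simp only [Pi.add_apply, ev] at a1
            by_cases hlm : l = m <;> simp [hlm, c2] at a1
          · have a1 := congrFun e' ⟨l + 1, hl⟩
            simp [ev, c4] at a1
          · have a1 := congrFun e' ⟨m + 1, hm⟩
            have a2 := congrFun e' ⟨l + 1, hl⟩
            simp only [Pi.add_apply, ev] at a1 a2
            by_cases h1' : m + 1 = l
            · subst h1'
              simp [show m + 1 + 1 ≠ m by omega, c4] at a2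
            · by_cases h2' : m = l
              · subst h2'
                simp at a1
                exact absurd (by linear_combination a1) c2
              · simp [h1', h2', c2.symm] at a1
      · have h2 := hS _ (Or.inr (Or.inr ⟨k, hk, rfl⟩))
        rw [map_add, map_add, ih k (by omega) (by omega)] at h2
        rcases h1 with ⟨l, hl, e⟩ | ⟨hD, e⟩ | ⟨l, hl, e⟩
        · have hlow : k + 1 ≤ l := by
            by_contra hlt
            have := hT (e.trans (ih l (by omega) hl).symm)
            have h3 := congrFun this ⟨k + 1, hk⟩
            simp [ev, show k + 1 ≠ l by omega] at h3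
          rw [e] at h2 ⊢
          rcases h2 with ⟨m, hm, e'⟩ | ⟨-, e'⟩ | ⟨m, hm, e'⟩
          · have := congrFun e' ⟨l, hl⟩
            simp only [Pi.add_apply, ev] at this
            by_cases hlm : l = m <;> simp [hlm, show l ≠ k by omega, show m ≠ k ∨ l ≠ m by omega, c2] at this
            all_goals simp [show m ≠ k by omega, c2] at this
          · have := congrFun e' ⟨l, hl⟩
            simp [ev, show l ≠ k by omega, show l ≠ 0 by omega, c2] at this
          · have a1 := congrFun e' ⟨l, hl⟩
            have a2 := congrFun e' ⟨k, by omega⟩
            simp only [Pi.add_apply, ev, if_pos, show l ≠ k by omega, show k ≠ l by omega, if_false, zero_add, add_zero] at a1 a2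
            by_cases h1' : l = m + 1
            · subst h1'
              simp [show k ≠ m + 1 by omega] at a2
              rw [a2]
            · by_cases h2' : l = m <;> simp [h1', h2', c2] at a1
        · exfalso
          have h3 : T (ev p D (k + 1)) = T (ev p D 0 + ev p D 0) := by
            rw [map_add, ih 0 (by omega) hD, e]
          have h4 := congrFun (hT h3) ⟨k + 1, hk⟩
          simp [ev] at h4
        · exfalso
          have hlow : k + 1 ≤ l + 1 := by
            by_contra hlt
            have h3 : T (ev p D (k + 1)) = T (ev p D l + (ev p D (l + 1) + ev p D (l + 1))) := by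
              rw [map_add, map_add, ih l (by omega) (by omega), ih (l + 1) (by omega) hl, e]
            have h4 := congrFun (hT h3) ⟨k + 1, hk⟩
            simp [ev, show k + 1 ≠ l by omega, show k ≠ l by omega] at h4
          rw [e] at h2
          have hkl : l + 1 ≠ k := by omega
          rcases h2 with ⟨m, hm, e'⟩ | ⟨-, e'⟩ | ⟨m, hm, e'⟩
          · have := congrFun e' ⟨l + 1, hl⟩
            simp only [Pi.add_apply, ev] at this
            by_cases hlm : l + 1 = m
            · subst hlm
              simp [hkl] at this
              exact absurd (by linear_combination this) c3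
            · simp [hlm, hkl, c4] at this
          · have := congrFun e' ⟨l + 1, hl⟩
            simp [ev, hkl, c4] at this
          · have := congrFun e' ⟨l + 1, hl⟩
            simp only [Pi.add_apply, ev] at this
            by_cases h1' : l = m
            · subst h1'
              simp [hkl] at this
              exact absurd (by linear_combination this) c2
            · by_cases h2' : l + 1 = m
              · subst h2'
                simp [hkl] at this
                exact absurd (by linear_combination this) c3
              · simp [h1', h2', hkl, c4] at this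
  exact eq_id_of_ev T hfix

end Odd

end Cfsg.Agent.BT62.Prim3
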